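import Mathlib
import Cfsg.Agent.Lib.Leech.Aut

/-!
A decidable membership test for explicit vectors and the extra automorphism `xi`.
-/

set_option autoImplicit false

namespace CfsgLib.Leech

open Cfsg Finset Golay
open scoped Pointwise

/-- The vector with the given list of coordinates (index 23 is the extra point). -/
def vec (l : List ℤ) : GolayPt → ℤ := fun i => l.getD (ix i) 0

/-- The bitmask of `cw x`. -/
def cwMask (x : GolayPt → ℤ) : ℕ :=
  (List.range 24).foldr (fun n m => if 2 ≤ x (pt n) % 4 then 2 ^ n ||| m else m) 0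

theorem testBit_foldr (p : ℕ → Prop) [DecidablePred p] (l : List ℕ) (k : ℕ) :
    (l.foldr (fun n m => if p n then 2 ^ n ||| m else m) 0).testBit k = true ↔ k ∈ l ∧ p k := by
  induction l with
  | nil => simp
  | cons a l ih =>
    simp only [List.foldr_cons, List.mem_cons]
    split_ifs with h
    · rw [Nat.testBit_or, Bool.or_eq_true, ih, Nat.testBit_two_pow]
      simp only [decide_eq_true_eq]
      constructor
      · rintro (rfl | h2)
        · exact ⟨Or.inl rfl, h⟩
        · exact ⟨Or.inr h2.1, h2.2⟩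
      · rintro ⟨rfl | h1, h2⟩
        · exact Or.inl rfl
        · exact Or.inr ⟨h1, h2⟩
    · rw [ih]
      constructor
      · exact fun h2 => ⟨Or.inr h2.1, h2.2⟩
      · rintro ⟨rfl | h1, h2⟩
        · exact absurd h2 h
        · exact ⟨h1, h2⟩

theorem ofMask_cwMask (x : GolayPt → ℤ) : ofMask (cwMask x) = cw x := by
  ext i
  rw [mem_ofMask, cwMask, testBit_foldr (fun n => 2 ≤ x (pt n) % 4), mem_cw, pt_ix]
  simp [ix_lt]

/-- Sum of the coordinates as a list sum. -/
def sumL (x : GolayPt → ℤ) : ℤ := ((List.range 24).map fun n => x (pt n)).sum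

theorem sumL_eq (x : GolayPt → ℤ) : sumL x = ∑ i, x i := by
  have := sum_pt (fun n => x (pt n))
  simp only [pt_ix] at this
  rw [this, sumL, Finset.sum_range, List.sum_range_succ]
  simp [Finset.sum_range_succ, List.sum_range_succ, Fin.sum_univ_succ]
  ring

/-- Boolean membership test. -/
def chk (x : GolayPt → ℤ) : Bool :=
  isCode (cwMask x) && (List.range 24).all (fun n => x (pt n) % 2 == x none % 2) &&
    (sumL x % 8 == 4 * (x none % 2))

theorem mem_of_chk {x : GolayPt → ℤ} (h : chk x = true) : x ∈ leechLattice := by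
  simp only [chk, Bool.and_eq_true, List.all_eq_true, List.mem_range, beq_iff_eq] at h
  obtain ⟨⟨h1, h2⟩, h3⟩ := h
  have h4 : ∀ i, x i % 2 = x none % 2 := fun i => by
    have := h2 _ (ix_lt i)
    rwa [pt_ix] at this
  rw [sumL_eq] at h3
  refine mem_iff.2 ⟨by rw [← ofMask_cwMask]; exact isCW_ofMask h1, ?_⟩
  rcases Int.emod_two_eq_zero_or_one (x none) with h | h
  · exact Or.inl ⟨fun i => by rw [h4, h], by omega⟩
  · exact Or.inr ⟨fun i => by rw [h4, h], by omega⟩

/-- First partner of a point in its tetrad of the standard sextet. -/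
def p1 (i : GolayPt) : GolayPt :=
  pt ([23, 2, 1, 5, 13, 3, 7, 6, 11, 10, 9, 8, 18, 4, 17, 20, 22, 14, 12, 21, 15, 19, 16, 0].getD
    (ix i) 0)

/-- Second partner of a point in its tetrad of the standard sextet. -/
def p2 (i : GolayPt) : GolayPt :=
  pt ([2, 23, 0, 14, 16, 17, 19, 21, 12, 15, 20, 18, 8, 22, 3, 9, 4, 5, 11, 6, 10, 7, 13, 1].getD
    (ix i) 0)

/-- Third partner of a point in its tetrad of the standard sextet. -/
def p3 (i : GolayPt) : GolayPt :=
  pt ([1, 0, 23, 17, 22, 14, 21, 19, 18, 20, 15, 12, 11, 16, 5, 10, 13, 3, 8, 7, 9, 6, 4, 2].getD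
    (ix i) 0)

/-- The sign: `-1` on the tetrad `{4, 13, 16, 22}`. -/
def sg (i : GolayPt) : ℤ :=
  [1, 1, 1, 1, -1, 1, 1, 1, 1, 1, 1, 1, 1, -1, 1, 1, -1, 1, 1, 1, 1, 1, -1, 1].getD (ix i) 0

theorem p_rel (i : GolayPt) : p1 (p1 i) = i ∧ p2 (p2 i) = i ∧ p3 (p3 i) = i ∧
    p1 (p2 i) = p3 i ∧ p2 (p1 i) = p3 i ∧ p1 (p3 i) = p2 i ∧ p3 (p1 i) = p2 i ∧
    p2 (p3 i) = p1 i ∧ p3 (p2 i) = p1 i ∧ sg (p1 i) = sg i ∧ sg (p2 i) = sg i ∧
    sg (p3 i) = sg i ∧ (sg i = 1 ∨ sg i = -1) := by
  revert i; decide +kernel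

/-- Twice the extra automorphism. -/
def xiM (x : GolayPt → ℤ) : GolayPt → ℤ :=
  fun i => sg i * (x (p1 i) + x (p2 i) + x (p3 i) - x i)

/-- The extra automorphism on integer vectors. -/
def xiF (x : GolayPt → ℤ) : GolayPt → ℤ := fun i => xiM x i / 2

theorem xiM_add (x y : GolayPt → ℤ) : xiM (x + y) = xiM x + xiM y := by
  funext i; simp only [xiM, Pi.add_apply]; ring

theorem xiM_neg (x : GolayPt → ℤ) : xiM (-x) = -xiM x := by
  funext i; simp only [xiM, Pi.neg_apply]; ring

theorem two_mul_xiF {x : GolayPt → ℤ} (hx : x ∈ leechLattice) (i : GolayPt) :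
    2 * xiF x i = xiM x i := by
  have : xiM x i % 2 = 0 := by
    unfold xiM
    rcases even_or_odd hx with h | h <;>
    · have := h i; have := h (p1 i); have := h (p2 i); have := h (p3 i)
      rcases (p_rel i).2.2.2.2.2.2.2.2.2.2.2.2 with e | e <;> rw [e] <;> omega
  unfold xiF; omega

theorem xiF_add {x y : GolayPt → ℤ} (hx : x ∈ leechLattice) (hy : y ∈ leechLattice) :
    xiF (x + y) = xiF x + xiF y := by
  funext i
  have h1 := two_mul_xiF hx i
  have h2 := two_mul_xiF hy i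
  have h3 := two_mul_xiF (add_mem hx hy) i
  rw [xiM_add] at h3
  simp only [Pi.add_apply] at h3 ⊢
  omega

theorem xiF_neg {x : GolayPt → ℤ} (hx : x ∈ leechLattice) : xiF (-x) = -xiF x := by
  funext i
  have h1 := two_mul_xiF hx i
  have h3 := two_mul_xiF (neg_mem hx) i
  rw [xiM_neg] at h3
  simp only [Pi.neg_apply] at h3 ⊢
  omega

theorem xiF_mem {x : GolayPt → ℤ} (hx : x ∈ leechLattice) : xiF x ∈ leechLattice := by
  let K : AddSubgroup (GolayPt → ℤ) :=
    { carrier := {x | x ∈ leechLattice ∧ xiF x ∈ leechLattice}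
      zero_mem' := ⟨zero_mem _, by
        have : xiF 0 = 0 := by funext i; simp [xiF, xiM]
        rw [this]; exact zero_mem _⟩
      add_mem' := fun ha hb => ⟨add_mem ha.1 hb.1, by
        rw [xiF_add ha.1 hb.1]; exact add_mem ha.2 hb.2⟩
      neg_mem' := fun ha => ⟨neg_mem ha.1, by rw [xiF_neg ha.1]; exact neg_mem ha.2⟩ }
  have h4 : ∀ i, (Pi.single i 4 + Pi.single none 4 : GolayPt → ℤ) ∈ K := by
    intro i
    refine ⟨single_four_add_mem _ _, mem_of_chk ?_⟩
    revert i; decide +kernel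
  have h1 : oddMin none ∈ K := ⟨oddMin_mem _, mem_of_chk (by decide +kernel)⟩
  have h2 : ∀ c, IsCW c → twoInd c ∈ K := by
    have hK : ∀ x : GolayPt → ℤ, (∀ i, x i % 4 = 0) → (∑ i, x i) % 8 = 0 → x ∈ K := by
      intro x hx hs
      have e : x = ∑ i, (x i / 4) • (Pi.single i 4 + Pi.single none 4 : GolayPt → ℤ) -
          ((∑ i, x i) / 8) • (Pi.single none 4 + Pi.single none 4 : GolayPt → ℤ) := by
        funext j
        have hsum : ∑ i, x i = 4 * ∑ i, x i / 4 := by
          rw [mul_sum]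
          exact sum_congr rfl fun i _ => by have := hx i; omega
        simp only [Pi.sub_apply, Finset.sum_apply, Pi.smul_apply, Pi.add_apply, Pi.single_apply,
          smul_eq_mul, mul_add, sum_add_distrib, mul_ite, mul_zero, sum_ite_eq, mem_univ, if_true]
        have := hx j
        split_ifs with h
        · rw [← sum_mul]; omega
        · simp; omega
      rw [e]
      exact sub_mem (sum_mem fun i _ => zsmul_mem (h4 i) _) (zsmul_mem (h4 none) _)
    apply twoInd_mem_of_gens K hK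
    · intro t
      refine ⟨twoInd_mem (isCW_support (Submodule.subset_span (Or.inl ⟨t, rfl⟩))), ?_⟩
      rw [support₂_qrWord]
      have e : ∀ m, twoInd (ofMask m) = fun i => if tb m (ix i) then 2 else 0 := by
        intro m; funext i; simp [twoInd, mem_ofMask, tb_eq]
      rw [e]
      apply mem_of_chk
      revert t; decide +kernel
    · refine ⟨twoInd_mem isCW_univ, ?_⟩
      have e : twoInd univ = fun _ => 2 := by funext i; simp [twoInd]
      rw [e]
      exact mem_of_chk (by decide +kernel)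
  exact (le_of_gens K none h4 h2 h1 hx).2

theorem xiF_xiF {x : GolayPt → ℤ} (hx : x ∈ leechLattice) : xiF (xiF x) = x := by
  funext i
  have h0 := two_mul_xiF (xiF_mem hx) i
  have h1 := two_mul_xiF hx i
  have h2 := two_mul_xiF hx (p1 i)
  have h3 := two_mul_xiF hx (p2 i)
  have h4 := two_mul_xiF hx (p3 i)
  obtain ⟨a1, a2, a3, a4, a5, a6, a7, a8, a9, b1, b2, b3, b4⟩ := p_rel i
  simp only [xiM, a1, a2, a3, a4, a5, a6, a7, a8, a9, b1, b2, b3] at h0 h1 h2 h3 h4
  rcases b4 with e | e <;> rw [e] at h0 h1 h2 h3 h4 <;> omega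

theorem sum_p1 (f : GolayPt → ℤ) : ∑ i, f (p1 i) = ∑ i, f i :=
  Equiv.sum_comp (Function.Involutive.toPerm p1 fun i => (p_rel i).1) f

theorem sum_p2 (f : GolayPt → ℤ) : ∑ i, f (p2 i) = ∑ i, f i :=
  Equiv.sum_comp (Function.Involutive.toPerm p2 fun i => (p_rel i).2.1) f

theorem sum_p3 (f : GolayPt → ℤ) : ∑ i, f (p3 i) = ∑ i, f i :=
  Equiv.sum_comp (Function.Involutive.toPerm p3 fun i => (p_rel i).2.2.1) f

theorem sqNorm_xiM (x : GolayPt → ℤ) : sqNorm (xiM x) = 4 * sqNorm x := by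
  have e : ∀ i, xiM x i ^ 2 = x (p1 i) ^ 2 + x (p2 i) ^ 2 + x (p3 i) ^ 2 + x i ^ 2 +
      2 * (x (p1 i) * x (p3 (p1 i)) + x (p3 i) * x (p2 (p3 i)) + x (p2 i) * x (p1 (p2 i)) -
        x i * x (p1 i) - x i * x (p2 i) - x i * x (p3 i)) := by
    intro i
    obtain ⟨a1, a2, a3, a4, a5, a6, a7, a8, a9, b1, b2, b3, b4⟩ := p_rel i
    rw [a7, a8, a4, xiM]
    rcases b4 with e | e <;> rw [e] <;> ring
  unfold sqNorm
  simp only [e, sum_add_distrib, sum_sub_distrib, ← mul_sum]
  rw [sum_p1 fun i => x i ^ 2, sum_p2 fun i => x i ^ 2, sum_p3 fun i => x i ^ 2,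
    sum_p1 fun i => x i * x (p3 i), sum_p3 fun i => x i * x (p2 i),
    sum_p2 fun i => x i * x (p1 i)]
  ring

theorem sqNorm_xiF {x : GolayPt → ℤ} (hx : x ∈ leechLattice) : sqNorm (xiF x) = sqNorm x := by
  have h := sqNorm_xiM x
  have e : xiM x = (2 : ℤ) • xiF x := by
    funext i; simp [two_mul_xiF hx]
  rw [e, sqNorm_zsmul] at h
  omega

/-- The extra automorphism attached to the standard sextet. -/
def xi : Co0 :=
  mkAut xiF xiF (fun _ => xiF_mem) (fun _ => xiF_mem) (fun _ => xiF_xiF) (fun _ => xiF_xiF)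
    (fun _ hx _ hy => xiF_add hx hy) (fun _ => sqNorm_xiF)

theorem coe_xi_smul (v : leechLattice) : ((xi • v : leechLattice) : GolayPt → ℤ) = xiF v := rfl

theorem xi_mul_self : xi * xi = 1 := co0_ext fun v => Subtype.ext (xiF_xiF v.2)

theorem xi_inv : xi⁻¹ = xi := inv_eq_of_mul_eq_one_right xi_mul_self

theorem two_mul_xi_smul (v : leechLattice) (i : GolayPt) :
    2 * ((xi • v : leechLattice) : GolayPt → ℤ) i =
      sg i * ((v : GolayPt → ℤ) (p1 i) + (v : GolayPt → ℤ) (p2 i) + (v : GolayPt → ℤ) (p3 i) -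
        (v : GolayPt → ℤ) i) := two_mul_xiF v.2 i

end CfsgLib.Leech
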