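import Mathlib
import Cfsg.Agent.Lib.Leech.Xi
import Cfsg.Agent.Lib.Leech.M24Facts

/-!
The monomial subgroup, the extra automorphism for an arbitrary tetrad, normal forms of short
vectors and transitivity of `Co0` on the vectors of norm 32, 48 and 64.
-/

set_option autoImplicit false

namespace CfsgLib.Leech

open Cfsg Finset Golay
open scoped Pointwise

/-- The monomial subgroup `2^12 : M24` of `Co0`. -/
def monoGrp : Subgroup Co0 where
  carrier := {g | ∃ (c : Finset GolayPt) (hc : IsCW c) (σ : M24), g = sgnAut c hc * permAut σ}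
  one_mem' := ⟨∅, isCW_empty, 1, by rw [sgnAut_empty, permAut_one, one_mul]⟩
  mul_mem' := by
    rintro _ _ ⟨c, hc, σ, rfl⟩ ⟨d, hd, τ, rfl⟩
    refine ⟨_, hc.symmDiff (isCW_smul hd σ), σ * τ, ?_⟩
    rw [← sgnAut_mul _ _ hc (isCW_smul hd σ), permAut_mul, mul_assoc, ← mul_assoc (permAut σ), permAut_mul_sgnAut]
    simp only [mul_assoc]
  inv_mem' := by
    rintro _ ⟨c, hc, σ, rfl⟩
    refine ⟨_, isCW_smul hc σ⁻¹, σ⁻¹, ?_⟩
    rw [mul_inv_rev, sgnAut_inv, ← permAut_inv, permAut_mul_sgnAut]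

theorem mem_monoGrp {g : Co0} : g ∈ monoGrp ↔
    ∃ (c : Finset GolayPt) (hc : IsCW c) (σ : M24), g = sgnAut c hc * permAut σ := Iff.rfl

theorem sgnAut_mem_monoGrp (c : Finset GolayPt) (hc : IsCW c) : sgnAut c hc ∈ monoGrp :=
  ⟨c, hc, 1, by rw [permAut_one, mul_one]⟩

theorem permAut_mem_monoGrp (σ : M24) : permAut σ ∈ monoGrp :=
  ⟨∅, isCW_empty, σ, by rw [sgnAut_empty, one_mul]⟩

/-- The extra automorphism for an arbitrary ordered tetrad. -/
theorem exists_xi {a b c d : GolayPt} (h : [a, b, c, d].Nodup) : ∃ g : Co0, g * g = 1 ∧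
    ∀ v : leechLattice,
      2 * ((g • v : leechLattice) : GolayPt → ℤ) a = v.1 b + v.1 c + v.1 d - v.1 a ∧
      2 * ((g • v : leechLattice) : GolayPt → ℤ) b = v.1 a + v.1 c + v.1 d - v.1 b ∧
      2 * ((g • v : leechLattice) : GolayPt → ℤ) c = v.1 a + v.1 b + v.1 d - v.1 c ∧
      2 * ((g • v : leechLattice) : GolayPt → ℤ) d = v.1 a + v.1 b + v.1 c - v.1 d := by
  obtain ⟨σ, h1, h2, h3, h4⟩ := exists_M24_four (a := none) (b := some 0) (c := some 1)
    (d := some 2) (by decide) h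
  refine ⟨permAut σ * xi * permAut σ⁻¹, ?_, fun v => ?_⟩
  · rw [permAut_inv]
    have := xi_mul_self
    calc _ = permAut σ * (xi * xi) * (permAut σ)⁻¹ := by group
      _ = 1 := by rw [this]; group
  have e : ∀ i, ((permAut σ⁻¹ • v : leechLattice) : GolayPt → ℤ) i = v.1 (σ • i) := fun i => by
    rw [permAut_smul_apply, inv_inv]
  subst h1 h2 h3 h4
  simp only [mul_smul, permAut_smul_apply_smul, two_mul_xi_smul, e]
  have q1 : p1 none = some 0 ∧ p2 none = some 1 ∧ p3 none = some 2 ∧ sg none = 1 ∧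
      p1 (some 0) = none ∧ p2 (some 0) = some 2 ∧ p3 (some 0) = some 1 ∧ sg (some 0) = 1 ∧
      p1 (some 1) = some 2 ∧ p2 (some 1) = none ∧ p3 (some 1) = some 0 ∧ sg (some 1) = 1 ∧
      p1 (some 2) = some 1 ∧ p2 (some 2) = some 0 ∧ p3 (some 2) = none ∧ sg (some 2) = 1 := by
    decide +kernel
  simp only [q1]
  refine ⟨?_, ?_, ?_, ?_⟩ <;> ring

theorem exists_three_notMem (S : Finset GolayPt) (h : S.card ≤ 21) :
    ∃ b c d, b ∉ S ∧ c ∉ S ∧ d ∉ S ∧ b ≠ c ∧ b ≠ d ∧ c ≠ d := by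
  have h1 : 2 < Sᶜ.card := by rw [card_compl, card_pt]; omega
  obtain ⟨b, c, d, hb, hc, hd, h2, h3, h4⟩ := two_lt_card_iff.1 h1
  exact ⟨b, c, d, mem_compl.1 hb, mem_compl.1 hc, mem_compl.1 hd, h2, h3, h4⟩

theorem exists_smul_odd_aux (k : ℕ) : ∀ v : leechLattice, sqNorm (v : GolayPt → ℤ) ≤ 84 →
    (∃ a, ¬ (2 : ℤ) ^ (k + 1) ∣ v.1 a) →
    ∃ g : Co0, IsOddVec ((g • v : leechLattice) : GolayPt → ℤ) := by
  induction k with
  | zero =>
    rintro v _ ⟨a, ha⟩
    exact ⟨1, by rw [one_smul]; exact isOddVec_of_odd v.2 (i := a) (by omega)⟩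
  | succ k ih =>
    rintro v hv ⟨a, ha⟩
    by_cases h : ∃ a, ¬ (2 : ℤ) ^ (k + 1) ∣ v.1 a
    · exact ih v hv h
    push Not at h
    let S : Finset GolayPt := univ.filter fun i => ¬ (2 : ℤ) ^ (k + 1 + 1) ∣ v.1 i
    have hS : 4 * (S.card : ℤ) ≤ sqNorm (v : GolayPt → ℤ) := by
      apply card_mul_le_sqNorm
      intro i hi
      have h1 := (mem_filter.1 hi).2
      have h2 : (2 : ℤ) ∣ v.1 i := (Dvd.intro_left _ (pow_succ 2 k).symm).trans (h i)
      obtain ⟨m, hm⟩ := h2
      have h3 : m ≠ 0 := by rintro rfl; apply h1; rw [hm]; simp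
      have := sq_pos_of_ne_zero h3
      rw [hm]; nlinarith
    obtain ⟨b, c, d, hb, hc, hd, h2, h3, h4⟩ := exists_three_notMem S (by omega)
    have haS : a ∈ S := mem_filter.2 ⟨mem_univ _, ha⟩
    have hnd : [a, b, c, d].Nodup := by
      have : a ≠ b := fun e => hb (e ▸ haS)
      have : a ≠ c := fun e => hc (e ▸ haS)
      have : a ≠ d := fun e => hd (e ▸ haS)
      simp [*]
    obtain ⟨g, -, hg⟩ := exists_xi hnd
    obtain ⟨g', hg'⟩ := ih (g • v) (by rwa [sqNorm_smul]) ⟨a, fun hdv => ha (by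
      have e := (hg v).1
      simp only [S, mem_filter, mem_univ, true_and, not_not] at hb hc hd
      have h5 : (2 : ℤ) ^ (k + 1 + 1) ∣ 2 * ((g • v : leechLattice) : GolayPt → ℤ) a := by
        rw [pow_succ' 2 (k + 1)]; exact mul_dvd_mul_left 2 hdv
      rw [e] at h5
      have h6 := dvd_sub (dvd_add (dvd_add hb hc) hd) h5
      simpa using h6)⟩
    exact ⟨g' * g, by rwa [mul_smul]⟩

/-- Every short nonzero vector can be moved to an odd vector. -/
theorem exists_smul_odd (v : leechLattice) (h0 : v ≠ 0) (hv : sqNorm (v : GolayPt → ℤ) ≤ 84) :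
    ∃ g : Co0, IsOddVec ((g • v : leechLattice) : GolayPt → ℤ) := by
  apply exists_smul_odd_aux 3 v hv
  by_contra h
  push Not at h
  apply h0
  apply Subtype.ext
  funext a
  obtain ⟨m, hm⟩ := h a
  have h1 := sq_le_sqNorm v a
  by_contra h2
  have h3 : m ≠ 0 := by rintro rfl; apply h2; rw [hm]; simp
  have := sq_pos_of_ne_zero h3
  rw [hm, mul_pow] at h1
  norm_num at h1
  omega

/-- The number of coordinates with given absolute value. -/
def cnt (x : GolayPt → ℤ) (k : ℤ) : ℕ := (univ.filter fun i => |x i| = k).card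

theorem eq_of_abs_eq_of_mod {a b : ℤ} (ha : a % 4 = 1) (hb : b % 4 = 1) (h : |a| = |b|) :
    a = b := by
  rcases abs_eq_abs.1 h with h | h <;> omega

/-- Two odd vectors of the same shape, with few coordinates other than `±1`, that agree on a set
`F` are related by a monomial automorphism fixing the vectors `8 e_a`, `a ∈ F`. -/
theorem odd_equiv_fix (F : Finset GolayPt) (v w : leechLattice) (hv : IsOddVec v.1)
    (hw : IsOddVec w.1) (hF : ∀ a ∈ F, v.1 a = w.1 a) (hc : ∀ k, cnt v k = cnt w k)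
    (h5 : (F ∪ univ.filter fun i => |v.1 i| ≠ 1).card ≤ 5) :
    ∃ g ∈ monoGrp, g • v = w ∧ ∀ a ∈ F, g • e8 a = e8 a := by
  classical
  let φ : (GolayPt → ℤ) → GolayPt → GolayPt ⊕ ℤ := fun x i =>
    if i ∈ F then Sum.inl i else Sum.inr |x i|
  have hfib : ∀ t, Fintype.card {i // φ v i = t} = Fintype.card {i // φ w i = t} := by
    intro t
    rw [Fintype.card_subtype, Fintype.card_subtype]
    rcases t with a | k
    · congr 1
      ext i
      simp only [φ, mem_filter, mem_univ, true_and]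
      split_ifs <;> simp
    · have key : ∀ x : GolayPt → ℤ, (univ.filter fun i => φ x i = Sum.inr k).card +
          (F.filter fun i => |x i| = k).card = cnt x k := by
        intro x
        rw [cnt, ← card_filter_add_card_filter_not (s := univ.filter fun i => |x i| = k)
          (fun i => i ∉ F)]
        congr 2
        · ext i
          simp only [φ, mem_filter, mem_univ, true_and]
          split_ifs with h <;> simp [h]
        · ext i
          simp [and_comm]
      have e : (F.filter fun i => |v.1 i| = k) = F.filter fun i => |w.1 i| = k :=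
        filter_congr fun i hi => by rw [hF i hi]
      have h1 := key v
      have h2 := key w
      rw [e, hc] at h1
      omega
  let π : GolayPt ≃ GolayPt := Equiv.ofFiberEquiv fun t => Fintype.equivOfCardEq (hfib t)
  have hπ : ∀ i, φ w (π i) = φ v i := Equiv.ofFiberEquiv_map _
  have hπF : ∀ a ∈ F, π a = a := by
    intro a ha
    have := hπ a
    simp only [φ, ha, if_true] at this
    split_ifs at this
    simpa using this
  have hπabs : ∀ i, |w.1 (π i)| = |v.1 i| := by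
    intro i
    by_cases h : i ∈ F
    · rw [hπF i h, hF i h]
    · have := hπ i
      simp only [φ, h, if_false] at this
      split_ifs at this
      simpa using this
  obtain ⟨σ, hσ⟩ := exists_M24_on _ h5 π π.injective.injOn
  have habs : ∀ i, |w.1 (σ • i)| = |v.1 i| := by
    intro i
    by_cases h : |v.1 i| = 1
    · rw [h]
      by_contra h2
      have h3 := hπabs (π.symm (σ • i))
      rw [Equiv.apply_symm_apply] at h3
      have h4 := hσ (π.symm (σ • i)) (by simp [← h3, h2])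
      rw [Equiv.apply_symm_apply, smul_left_cancel_iff] at h4
      rw [h4, h] at h3
      exact h2 h3
    · rw [hσ i (by simp [h]), hπabs]
  refine ⟨sgnAut _ (isCW_cw w.2) * permAut σ * sgnAut _ (isCW_cw v.2),
    mul_mem (mul_mem (sgnAut_mem_monoGrp _ _) (permAut_mem_monoGrp _)) (sgnAut_mem_monoGrp _ _),
    ?_, fun a ha => ?_⟩
  · rw [mul_smul, mul_smul, ← eq_inv_smul_iff, sgnAut_inv]
    apply Subtype.ext
    funext i
    obtain ⟨j, rfl⟩ : ∃ j, i = σ • j := ⟨σ⁻¹ • i, by simp⟩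
    rw [permAut_smul_apply_smul, coe_sgnAut_smul, coe_sgnAut_smul]
    apply eq_of_abs_eq_of_mod (sgn_cw_mod hv _) (sgn_cw_mod hw _)
    rw [abs_sgn, abs_sgn, habs]
  · have h1 : σ • a = a := by rw [hσ a (by simp [ha]), hπF a ha]
    have h2 : a ∈ cw w.1 ↔ a ∈ cw v.1 := by rw [mem_cw, mem_cw, hF a ha]
    rw [mul_smul, mul_smul, sgnAut_smul_e8]
    by_cases h : a ∈ cw v.1
    · rw [if_pos h, smul_neg, smul_neg, permAut_smul_e8, h1, sgnAut_smul_e8, if_pos (h2.2 h),
        neg_neg]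
    · rw [if_neg h, permAut_smul_e8, h1, sgnAut_smul_e8, if_neg (mt h2.1 h)]

/-- The shape numbers of a short odd vector. -/
theorem odd_cnt {x : GolayPt → ℤ} (ho : IsOddVec x) (hn : sqNorm x ≤ 100) :
    cnt x 1 + cnt x 3 + cnt x 5 + cnt x 7 = 24 ∧
    (cnt x 1 : ℤ) + 9 * cnt x 3 + 25 * cnt x 5 + 49 * cnt x 7 = sqNorm x ∧
    (∀ k, k ≠ 1 → k ≠ 3 → k ≠ 5 → k ≠ 7 → cnt x k = 0) ∧
    (univ.filter fun i => |x i| ≠ 1).card = cnt x 3 + cnt x 5 + cnt x 7 := by
  have hb : ∀ i, |x i| = 1 ∨ |x i| = 3 ∨ |x i| = 5 ∨ |x i| = 7 := by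
    intro i
    have h1 : x i ^ 2 + 23 ≤ sqNorm x := by
      unfold sqNorm
      rw [← add_sum_erase univ _ (mem_univ i)]
      have := card_nsmul_le_sum (univ.erase i) (fun j => x j ^ 2) 1 fun j _ => by
        have h := ho j
        have h0 : x j ≠ 0 := by intro h0; rw [h0] at h; omega
        have := sq_pos_of_ne_zero h0
        omega
      rw [card_erase_of_mem (mem_univ _), card_univ, card_pt] at this
      simp only [nsmul_eq_mul] at this
      omega
    have h2 : |x i| < 9 := by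
      apply abs_lt_of_sq_lt_sq _ (by norm_num)
      omega
    have h3 := ho i
    rcases abs_cases (x i) with h | h <;> omega
  have hcast : ∀ k, (cnt x k : ℤ) = ∑ i, if |x i| = k then 1 else 0 := by
    intro k; simp [cnt]
  have h1 : (cnt x 1 : ℤ) + cnt x 3 + cnt x 5 + cnt x 7 = 24 := by
    simp only [hcast, ← sum_add_distrib]
    rw [sum_congr rfl (g := fun _ => 1)]
    · simp [card_pt]
    · intro i _
      rcases hb i with h | h | h | h <;> simp [h]
  refine ⟨by omega, ?_, fun k a b c d => ?_, ?_⟩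
  · simp only [hcast, mul_sum, ← sum_add_distrib]
    refine sum_congr rfl fun i _ => ?_
    rw [← sq_abs]
    rcases hb i with h | h | h | h <;> simp [h]
  · rw [cnt, card_eq_zero, filter_eq_empty_iff]
    intro i _ h
    have := hb i
    omega
  · have := card_filter_add_card_filter_not (s := (univ : Finset GolayPt)) (fun i => |x i| = 1)
    rw [card_univ, card_pt] at this
    unfold cnt at h1 ⊢
    simp only [ne_eq]
    omega

/-- Odd vectors of equal norm at most 64 with the same number of coordinates `±5` that agree on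
`F`. -/
theorem odd_equiv_fix' (F : Finset GolayPt) (v w : leechLattice) (hv : IsOddVec v.1)
    (hw : IsOddVec w.1) (hF : ∀ a ∈ F, v.1 a = w.1 a)
    (hn : sqNorm v.1 = sqNorm w.1) (hn' : sqNorm v.1 ≤ 64) (hc : cnt v 5 = cnt w 5)
    (h5 : (F ∪ univ.filter fun i => |v.1 i| ≠ 1).card ≤ 5) :
    ∃ g ∈ monoGrp, g • v = w ∧ ∀ a ∈ F, g • e8 a = e8 a := by
  obtain ⟨a1, a2, a3, -⟩ := odd_cnt hv (by omega)
  obtain ⟨b1, b2, b3, -⟩ := odd_cnt hw (by omega)
  refine odd_equiv_fix F v w hv hw hF (fun k => ?_) h5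
  by_cases h1 : k = 1
  · subst h1; omega
  by_cases h3 : k = 3
  · subst h3; omega
  by_cases h5 : k = 5
  · subst h5; omega
  by_cases h7 : k = 7
  · subst h7; omega
  rw [a3 k h1 h3 h5 h7, b3 k h1 h3 h5 h7]

theorem odd_equiv (v w : leechLattice) (hv : IsOddVec v.1) (hw : IsOddVec w.1)
    (hn : sqNorm v.1 = sqNorm w.1) (hn' : sqNorm v.1 ≤ 64) (hc : cnt v 5 = cnt w 5) :
    ∃ g ∈ monoGrp, g • v = w := by
  obtain ⟨a1, a2, a3, a4⟩ := odd_cnt hv (by omega)
  obtain ⟨g, h1, h2, -⟩ := odd_equiv_fix' ∅ v w hv hw (by simp) hn hn' hc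
    (by rw [empty_union, a4]; omega)
  exact ⟨g, h1, h2⟩

theorem cnt_five_le {x : GolayPt → ℤ} (ho : IsOddVec x) (hn : sqNorm x ≤ 64) : cnt x 5 ≤ 1 := by
  obtain ⟨a1, a2, -, -⟩ := odd_cnt ho (by omega)
  omega

theorem exists_odd_no_five (v : leechLattice) (h0 : v ≠ 0) (hv : sqNorm v.1 ≤ 64) :
    ∃ g : Co0, IsOddVec (g • v).1 ∧ cnt (g • v).1 5 = 0 := by
  obtain ⟨g, hg⟩ := exists_smul_odd v h0 (by omega)
  have hn := sqNorm_smul g v
  by_cases h5 : cnt (g • v).1 5 = 0
  · exact ⟨g, hg, h5⟩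
  have h6 := cnt_five_le hg (by omega)
  obtain ⟨a1, a2, -, -⟩ := odd_cnt hg (by omega)
  have h7 := sqNorm_mod v.2
  have h8 : sqNorm v.1 = 48 ∨ sqNorm v.1 = 64 := by omega
  rcases h8 with h8 | h8
  · let w : leechLattice := ⟨vec [1, 1, 1, 1, 1, 1, 1, 1, 1, 1, 1, 1, 1, 1, 1, 1, 1, 1, 1, 1, 1, 1,
      1, 5], mem_of_chk (by decide +kernel)⟩
    have hw : IsOddVec w.1 ∧ sqNorm w.1 = 48 ∧ cnt w 5 = 1 ∧ IsOddVec (xiF w) ∧
        cnt (xiF w) 5 = 0 := by
      unfold IsOddVec; decide +kernel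
    obtain ⟨n, -, hn'⟩ := odd_equiv (g • v) w hg hw.1 (by omega) (by omega) (by omega)
    refine ⟨xi * n * g, ?_⟩
    rw [mul_smul, mul_smul, hn']
    exact hw.2.2.2
  · let w : leechLattice := ⟨vec [1, 1, 1, 1, -3, 1, 1, 1, 1, 1, 1, 1, 1, -3, 1, 1, 1, 1, 1, 1, 1,
      1, 1, 5], mem_of_chk (by decide +kernel)⟩
    have hw : IsOddVec w.1 ∧ sqNorm w.1 = 64 ∧ cnt w 5 = 1 ∧ IsOddVec (xiF w) ∧
        cnt (xiF w) 5 = 0 := by
      unfold IsOddVec; decide +kernel
    obtain ⟨n, -, hn'⟩ := odd_equiv (g • v) w hg hw.1 (by omega) (by omega) (by omega)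
    refine ⟨xi * n * g, ?_⟩
    rw [mul_smul, mul_smul, hn']
    exact hw.2.2.2

/-- `Co0` is transitive on the lattice vectors of each norm up to 64. -/
theorem exists_smul_eq_of_sqNorm (v w : leechLattice) (h : sqNorm v.1 = sqNorm w.1)
    (hv : sqNorm v.1 ≤ 64) : ∃ g : Co0, g • v = w := by
  by_cases h0 : v = 0
  · subst h0
    have : sqNorm w.1 = 0 := by rw [← h]; simp [sqNorm]
    exact ⟨1, by rw [smul_zero]; exact Subtype.ext (sqNorm_eq_zero this).symm⟩
  have h1 : w ≠ 0 := by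
    rintro rfl
    apply h0
    apply Subtype.ext
    apply sqNorm_eq_zero
    rw [h]; simp [sqNorm]
  obtain ⟨g, hg, hg'⟩ := exists_odd_no_five v h0 hv
  obtain ⟨g', hg2, hg2'⟩ := exists_odd_no_five w h1 (by omega)
  obtain ⟨n, -, hn⟩ := odd_equiv _ _ hg hg2 (by rw [sqNorm_smul, sqNorm_smul, h])
    (by rwa [sqNorm_smul]) (by rw [hg', hg2'])
  exact ⟨g'⁻¹ * n * g, by rw [mul_smul, mul_smul, hn, inv_smul_smul]⟩

theorem exists_smul_eq_e8 (v : leechLattice) (hv : sqNorm v.1 = 64) (a : GolayPt) :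
    ∃ g : Co0, g • v = e8 a :=
  exists_smul_eq_of_sqNorm v _ (by rw [hv, sqNorm_e8]) hv.le

end CfsgLib.Leech
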