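import Mathlib
import Cfsg.Agent.Lib.Leech.Xi
import Cfsg.Agent.Lib.Leech.Index
import Cfsg.Agent.Lib.Comput.NetModel

/-!
Packed lattice vectors (24 digits in base 32, offset 16), explicit elements of `Co0` acting on
them, membership test, inner products.
-/

set_option autoImplicit false

namespace CfsgLib.Leech

open Cfsg Finset Golay

theorem sum_digits_lt (B : ℕ) (f : ℕ → ℕ) (k : ℕ) (hf : ∀ j < k, f j < B) :
    ∑ j ∈ range k, f j * B ^ j < B ^ k := by
  induction k with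
  | zero => simp
  | succ k ih =>
    rw [sum_range_succ, pow_succ]
    have h1 := ih fun j hj => hf j (by omega)
    have h2 : (f k + 1) * B ^ k ≤ B * B ^ k := Nat.mul_le_mul_right _ (hf k (by omega))
    nlinarith

theorem sum_digits_digit (B : ℕ) (f : ℕ → ℕ) (k : ℕ) (hf : ∀ j < k, f j < B) {i : ℕ} (hi : i < k) :
    (∑ j ∈ range k, f j * B ^ j) / B ^ i % B = f i := by
  induction k with
  | zero => omega
  | succ k ih =>
    have hB : 0 < B := by have := hf 0 (by omega); omega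
    rw [sum_range_succ]
    rcases Nat.lt_succ_iff_lt_or_eq.1 hi with h | rfl
    · obtain ⟨d, rfl⟩ := Nat.exists_eq_add_of_lt h
      rw [show f (i + d + 1) * B ^ (i + d + 1) = B ^ i * (B * (f (i + d + 1) * B ^ d)) by ring,
        Nat.add_mul_div_left _ _ (Nat.pow_pos hB), Nat.add_mul_mod_self_left]
      exact ih (fun j hj => hf j (by omega)) h
    · rw [Nat.add_mul_div_right _ _ (Nat.pow_pos hB),
        Nat.div_eq_of_lt (sum_digits_lt B f i fun j hj => hf j (by omega)), zero_add]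
      exact Nat.mod_eq_of_lt (hf i hi)

theorem mod_pow_eq_sum (B N k : ℕ) : N % B ^ k = ∑ j ∈ range k, N / B ^ j % B * B ^ j := by
  induction k with
  | zero => simp [Nat.mod_one]
  | succ k ih => rw [sum_range_succ, ← ih, pow_succ, Nat.mod_mul, mul_comm]

/-- The `j`-th digit in base 32. -/
def dg (N j : ℕ) : ℕ := N / 32 ^ j % 32

theorem dg_lt (N j : ℕ) : dg N j < 32 := Nat.mod_lt _ (by norm_num)

theorem dg_zero (N : ℕ) : dg N 0 = Nat.land N 31 := by
  rw [dg, pow_zero, Nat.div_one]; exact (Nat.and_two_pow_sub_one_eq_mod N 5).symm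

theorem dg_succ (N j : ℕ) : dg N (j + 1) = dg (Nat.shiftRight N 5) j := by
  have : Nat.shiftRight N 5 = N / 32 := Nat.shiftRight_eq_div_pow N 5
  rw [this, dg, dg, Nat.div_div_eq_div_mul, pow_succ']

/-- The vector encoded by a natural number. -/
def dec (N : ℕ) : GolayPt → ℤ := fun i => (dg N (ix i) : ℤ) - 16

/-- The additive encoding of integer vectors. -/
def enc : (GolayPt → ℤ) →+ ℤ where
  toFun x := ∑ i, x i * 32 ^ ix i
  map_zero' := by simp
  map_add' x y := by simp [add_mul, sum_add_distrib]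

theorem enc_apply (x : GolayPt → ℤ) : enc x = ∑ i, x i * 32 ^ ix i := rfl

/-- The code of the zero vector. -/
def OFF : ℕ := 0x842108421084210842108421084210

theorem OFF_eq : (OFF : ℤ) = ∑ i : GolayPt, 16 * 32 ^ ix i := by
  rw [sum_pt fun j => (16 : ℤ) * 32 ^ j]; decide +kernel

/-- `N` is the code of `x`. -/
def Rep (N : ℕ) (x : GolayPt → ℤ) : Prop := N < 2 ^ 120 ∧ dec N = x

theorem Rep.cast {N : ℕ} {x : GolayPt → ℤ} (h : Rep N x) : (N : ℤ) = enc x + OFF := by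
  obtain ⟨h1, rfl⟩ := h
  have h2 := mod_pow_eq_sum 32 N 24
  rw [Nat.mod_eq_of_lt (by norm_num at h1 ⊢; exact h1)] at h2
  rw [OFF_eq, enc_apply, ← sum_add_distrib]
  simp only [dec]
  rw [sum_pt fun j => ((dg N j : ℤ) - 16) * 32 ^ j + 16 * 32 ^ j]
  conv_lhs => rw [h2]
  push_cast
  exact sum_congr rfl fun j _ => by simp only [dg]; push_cast; ring

theorem rep_of_cast {N : ℕ} {x : GolayPt → ℤ} (hx : ∀ i, -16 ≤ x i ∧ x i ≤ 15)
    (h : (N : ℤ) = enc x + OFF) : Rep N x := by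
  have h1 : N = ∑ j ∈ range 24, (x (pt j) + 16).toNat * 32 ^ j := by
    zify
    rw [h, OFF_eq, enc_apply, ← sum_add_distrib, ← sum_pt fun j => (((x (pt j) + 16).toNat : ℕ) : ℤ) * 32 ^ j]
    refine sum_congr rfl fun i _ => ?_
    rw [pt_ix, Int.toNat_of_nonneg (by have := hx i; omega)]; ring
  have h2 : ∀ j < 24, (x (pt j) + 16).toNat < 32 := fun j _ => by have := hx (pt j); omega
  refine ⟨?_, funext fun i => ?_⟩
  · have := sum_digits_lt 32 _ 24 h2
    rw [← h1] at this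
    norm_num at this ⊢; exact this
  · have := sum_digits_digit 32 _ 24 h2 (ix_lt i)
    rw [← h1, pt_ix] at this
    have := hx i
    simp only [dec, dg]
    omega

theorem Rep.unique {N N' : ℕ} {x : GolayPt → ℤ} (h : Rep N x) (h' : Rep N' x) : N = N' := by
  have := h.cast; have := h'.cast; omega

theorem Rep.eq {N : ℕ} {x y : GolayPt → ℤ} (h : Rep N x) (h' : Rep N y) : x = y :=
  h.2.symm.trans h'.2

theorem bound_of_sqNorm {x : GolayPt → ℤ} (h : sqNorm x < 256) (i : GolayPt) :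
    -15 ≤ x i ∧ x i ≤ 15 := by
  have h1 := sq_le_sqNorm x i
  have h3 : |x i| < 16 := abs_lt_of_sq_lt_sq (by omega) (by norm_num)
  have := abs_lt.1 h3
  omega

theorem Rep.neg {N : ℕ} {x : GolayPt → ℤ} (h : Rep N x) (hx : sqNorm x < 256) :
    Rep (Nat.sub 0x1084210842108421084210842108420 N) (-x) := by
  have h1 := h.cast
  have h2 : ∀ i, -16 ≤ (-x) i ∧ (-x) i ≤ 15 := fun i => by
    have := bound_of_sqNorm hx i; simp only [Pi.neg_apply]; omega
  have h3 : Rep (enc (-x) + OFF).toNat (-x) := by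
    apply rep_of_cast h2
    apply Int.toNat_of_nonneg
    rw [OFF_eq, enc_apply, ← sum_add_distrib]
    exact sum_nonneg fun i _ => by
      rw [← add_mul]; exact mul_nonneg (by have := h2 i; omega) (by positivity)
  convert h3
  rw [map_neg]
  have : (OFF : ℤ) = 0x842108421084210842108421084210 := rfl
  change _ - N = _
  omega

/-- Weighted digit sums. -/
noncomputable def sumD (φ : ℕ → ℕ) (C : List ℕ) : ℕ → ℕ :=
  List.rec (fun _ => 0)
    (fun c _ ih N => Nat.add (Nat.mul (φ (Nat.land N 31)) c) (ih (Nat.shiftRight N 5))) C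

theorem sumD_eq (φ : ℕ → ℕ) (C : List ℕ) (N : ℕ) :
    sumD φ C N = ∑ j ∈ range C.length, φ (dg N j) * C.getD j 0 := by
  induction C generalizing N with
  | nil => rfl
  | cons c C ih =>
    rw [List.length_cons, sum_range_succ', dg_zero]
    simp only [dg_succ, List.getD_cons_succ, List.getD_cons_zero, ← ih]
    exact Nat.add_comm _ _

/-- The linear combination of the columns `C` with the digits of `N`, plus `K`. -/
noncomputable def linD (K : ℕ) (C : List ℕ) : ℕ → ℕ :=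
  List.rec (fun _ => K)
    (fun c _ ih N => Nat.add (Nat.mul (Nat.land N 31) c) (ih (Nat.shiftRight N 5))) C

theorem linD_eq (K : ℕ) (C : List ℕ) (N : ℕ) :
    linD K C N = ∑ j ∈ range C.length, dg N j * C.getD j 0 + K := by
  induction C generalizing N with
  | nil => simp [linD]
  | cons c C ih =>
    rw [List.length_cons, sum_range_succ', dg_zero]
    simp only [dg_succ, List.getD_cons_succ, List.getD_cons_zero]
    rw [add_right_comm, ← ih]
    exact Nat.add_comm _ _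

/-- A packed matrix applied to a packed vector. -/
noncomputable def act (K : ℕ) (C : List ℕ) (N : ℕ) : ℕ :=
  Nat.shiftRight (Nat.land (linD K C N) 0x7ffffffffffffffffffffffffffffff) 3

theorem act_eq (K : ℕ) (C : List ℕ) (N : ℕ) : act K C N = linD K C N % 2 ^ 123 / 8 := by
  have : Nat.land (linD K C N) 0x7ffffffffffffffffffffffffffffff = linD K C N % 2 ^ 123 :=
    Nat.and_two_pow_sub_one_eq_mod _ 123
  rw [act, this]
  exact Nat.shiftRight_eq_div_pow _ 3

theorem act_lt (K : ℕ) (C : List ℕ) (N : ℕ) : act K C N < 2 ^ 120 := by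
  rw [act_eq]; omega

/-- `f` computes the action of `g` on the codes of short lattice vectors. -/
def Sim (g : Co0) (f : ℕ → ℕ) : Prop :=
  ∀ (v : leechLattice) (N : ℕ), sqNorm v.1 < 256 → Rep N v.1 → Rep (f N) (g • v).1

theorem Sim.one : Sim 1 (fun N => N) := fun v N _ h => by rwa [one_smul]

theorem Sim.mul {g h : Co0} {f f' : ℕ → ℕ} (h1 : Sim g f) (h2 : Sim h f') :
    Sim (g * h) (fun N => f (f' N)) := fun v N hv hN => by
  rw [mul_smul]
  exact h1 _ _ (by rwa [sqNorm_smul]) (h2 v N hv hN)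

theorem Sim.smul_eq {g : Co0} {f : ℕ → ℕ} (h : Sim g f) {v w : leechLattice} {N N' : ℕ}
    (hv : sqNorm v.1 < 256) (hN : Rep N v.1) (hN' : Rep N' w.1) (e : Nat.beq (f N) N' = true) :
    g • v = w := by
  have := h v N hv hN
  rw [Nat.eq_of_beq_eq_true e] at this
  exact Subtype.ext (this.eq hN')

theorem dg_OFF : ∀ a : GolayPt, dg OFF (ix a) = 16 := by decide +kernel

theorem sim_act {g : Co0} {K : ℕ} {C : List ℕ} (hl : C.length = 24)
    (hC : ∀ i, (C.getD (ix i) 0 : ℤ) ≡ enc (g • e8 i).1 [ZMOD 2 ^ 123])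
    (hK : (linD K C OFF : ℤ) ≡ 8 * OFF [ZMOD 2 ^ 123]) : Sim g (act K C) := by
  intro v N hv hN
  have hb : ∀ i, -16 ≤ (g • v).1 i ∧ (g • v).1 i ≤ 15 := fun i => by
    have := bound_of_sqNorm (x := (g • v).1) (by rwa [sqNorm_smul]) i; omega
  have h3 : Rep (enc (g • v).1 + OFF).toNat (g • v).1 := by
    apply rep_of_cast hb
    apply Int.toNat_of_nonneg
    rw [OFF_eq, enc_apply, ← sum_add_distrib]
    exact sum_nonneg fun i _ => by
      rw [← add_mul]; exact mul_nonneg (by have := hb i; omega) (by positivity)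
  have h4 := h3.cast
  have h5 := h3.1
  have h6 : 8 * enc (g • v).1 = ∑ a, v.1 a * enc (g • e8 a).1 := by
    simp only [enc_apply, mul_sum, ← mul_assoc, eight_mul_smul_apply, sum_mul]
    exact sum_comm
  have h7 : (linD K C N : ℤ) = ∑ a, v.1 a * C.getD (ix a) 0 + linD K C OFF := by
    rw [linD_eq, linD_eq, hl]
    push_cast
    rw [← sum_pt fun j => (dg N j : ℤ) * C.getD j 0, ← sum_pt fun j => (dg OFF j : ℤ) * C.getD j 0,
      ← add_assoc, ← sum_add_distrib]
    refine congrArg (· + (K : ℤ)) (sum_congr rfl fun a _ => ?_)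
    have e2 : v.1 a = (dg N (ix a) : ℤ) - 16 := (congrFun hN.2 a).symm
    rw [dg_OFF, e2]; push_cast; ring
  have h8 : (linD K C N : ℤ) ≡ 8 * enc (g • v).1 + 8 * OFF [ZMOD 2 ^ 123] := by
    rw [h7, h6]
    exact Int.ModEq.add (Int.ModEq.sum fun a _ => (hC a).mul_left _) hK
  convert h3
  rw [act_eq]
  unfold Int.ModEq at h8
  omega

/-- Membership test for packed vectors. -/
noncomputable def chkN (N : ℕ) : Bool :=
  Comput.band (Nat.ble N 0xffffffffffffffffffffffffffffff) <|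
  Comput.band (isCode (sumD (fun d => Nat.land (Nat.shiftRight d 1) 1) [1, 2, 4, 8, 16, 32, 64, 128, 256,
    512, 1024, 2048, 4096, 8192, 16384, 32768, 65536, 131072, 262144, 524288, 1048576, 2097152,
    4194304, 8388608] N)) <|
  Comput.band (Nat.beq (sumD (fun d => Nat.land d 1) (List.replicate 24 1) N) (Nat.mul 24 (Nat.land N 1)))
    (Nat.beq (Nat.land (sumD (fun d => d) (List.replicate 24 1) N) 7) (Nat.mul 4 (Nat.land N 1)))

theorem sumD_ones (φ : ℕ → ℕ) (N : ℕ) :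
    sumD φ (List.replicate 24 1) N = ∑ i : GolayPt, φ (dg N (ix i)) := by
  rw [sumD_eq, sum_pt fun j => φ (dg N j)]
  refine sum_congr rfl fun j hj => ?_
  have : ∀ j < 24, (List.replicate 24 1).getD j 0 = 1 := by decide
  rw [this j (by simpa using hj), mul_one]

theorem pows_getD : ∀ j < 24, [1, 2, 4, 8, 16, 32, 64, 128, 256,
    512, 1024, 2048, 4096, 8192, 16384, 32768, 65536, 131072, 262144, 524288, 1048576, 2097152,
    4194304, 8388608].getD j 0 = 2 ^ j := by decide +kernel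

theorem chkN_sound {N : ℕ} (h : chkN N = true) : N < 2 ^ 120 ∧ dec N ∈ leechLattice := by
  simp only [chkN, Comput.band_eq_true, sumD_ones] at h
  obtain ⟨h1, h2, h3, h4⟩ := h
  have h1' := Nat.le_of_ble_eq_true h1
  have h3' := Nat.eq_of_beq_eq_true h3
  have h4' := Nat.eq_of_beq_eq_true h4
  have e1 : ∀ d, Nat.land d 1 = d % 2 := Nat.and_one_is_mod
  have e7 : ∀ d, Nat.land d 7 = d % 8 := fun d => Nat.and_two_pow_sub_one_eq_mod d 3
  have e2 : ∀ d, Nat.shiftRight d 1 = d / 2 := fun d => Nat.shiftRight_eq_div_pow d 1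
  simp only [e1, e7, e2, Nat.mul_eq] at h2 h3' h4'
  refine ⟨by omega, mem_iff.2 ⟨?_, ?_⟩⟩
  · refine (isCW_ofMask h2).congr fun i => ?_
    have e : sumD (fun d => d / 2 % 2) [1, 2, 4, 8, 16, 32, 64, 128, 256,
        512, 1024, 2048, 4096, 8192, 16384, 32768, 65536, 131072, 262144, 524288, 1048576, 2097152,
        4194304, 8388608] N = ∑ j ∈ range 24, dg N j / 2 % 2 * 2 ^ j := by
      rw [sumD_eq]
      exact sum_congr rfl fun j hj => by rw [pows_getD j (mem_range.1 hj)]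
    rw [mem_ofMask, e, Nat.testBit_eq_decide_div_mod_eq,
      sum_digits_digit 2 _ 24 (fun j _ => Nat.mod_lt _ (by norm_num)) (ix_lt i), mem_cw, dec,
      decide_eq_true_eq]
    omega
  · have hs : ∑ i, dec N i = ((∑ i : GolayPt, dg N (ix i) : ℕ) : ℤ) - 384 := by
      simp only [dec, sum_sub_distrib, sum_const, card_univ, card_pt, Nat.cast_sum]
      norm_num
    rcases Nat.mod_two_eq_zero_or_one N with h | h
    · refine Or.inl ⟨fun i => ?_, by omega⟩
      rw [h, mul_zero, sum_eq_zero_iff] at h3'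
      have := h3' i (mem_univ _)
      simp only [dec]; omega
    · refine Or.inr ⟨fun i => ?_, by omega⟩
      by_contra hi
      have := sum_lt_sum (s := univ) (f := fun i => dg N (ix i) % 2) (g := fun _ => 1)
        (fun j _ => by omega) ⟨i, mem_univ _, by simp only [dec] at hi; omega⟩
      simp only [sum_const, card_univ, card_pt, smul_eq_mul] at this
      omega

open Classical in
/-- The lattice vector with a given code. -/
noncomputable def toL (N : ℕ) : leechLattice :=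
  if h : dec N ∈ leechLattice then ⟨dec N, h⟩ else 0

theorem coe_toL {N : ℕ} (h : chkN N = true) : (toL N).1 = dec N := by
  rw [toL, dif_pos (chkN_sound h).2]

theorem rep_toL {N : ℕ} (h : chkN N = true) : Rep N (toL N).1 :=
  ⟨(chkN_sound h).1, (coe_toL h).symm⟩

theorem Rep.toL_eq {N : ℕ} {v : leechLattice} (h : Rep N v.1) : toL N = v := by
  have : dec N ∈ leechLattice := h.2 ▸ v.2
  rw [toL, dif_pos this]; exact Subtype.ext h.2

/-- Sum of the products of the digits. -/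
noncomputable def mulD (k : ℕ) : ℕ → ℕ → ℕ :=
  Nat.rec (fun _ _ => 0) (fun _ ih a b => Nat.add (Nat.mul (Nat.land a 31) (Nat.land b 31))
    (ih (Nat.shiftRight a 5) (Nat.shiftRight b 5))) k

theorem mulD_eq (k a b : ℕ) : mulD k a b = ∑ j ∈ range k, dg a j * dg b j := by
  induction k generalizing a b with
  | zero => rfl
  | succ k ih =>
    rw [sum_range_succ', dg_zero, dg_zero]
    simp only [dg_succ, ← ih]
    exact Nat.add_comm _ _

/-- The inner product of packed vectors. -/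
noncomputable def dotN (a b : ℕ) : ℤ :=
  Int.subNatNat (Nat.add (mulD 24 a b) 6144) (Nat.mul 16 (Nat.add
    (sumD (fun d => d) (List.replicate 24 1) a) (sumD (fun d => d) (List.replicate 24 1) b)))

theorem dotN_eq (a b : ℕ) : dotN a b = dotInt (dec a) (dec b) := by
  have e : dotN a b = (mulD 24 a b : ℤ) + 6144 - 16 * (sumD (fun d => d) (List.replicate 24 1) a +
      sumD (fun d => d) (List.replicate 24 1) b) := by
    unfold dotN
    rw [Int.subNatNat_eq_coe]
    simp only [Nat.add_eq, Nat.mul_eq, Int.ofNat_eq_natCast, Nat.cast_add, Nat.cast_mul,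
      Nat.cast_ofNat]
  have h : (6144 : ℤ) = ∑ _i : GolayPt, 256 := by rw [sum_const, card_univ, card_pt]; norm_num
  rw [e, h, mulD_eq, sumD_ones, sumD_ones, ← sum_pt fun j => dg a j * dg b j]
  simp only [dotInt, dec, Nat.cast_sum, Nat.cast_mul]
  rw [← sum_add_distrib, ← sum_add_distrib, mul_sum, ← sum_sub_distrib]
  exact sum_congr rfl fun i _ => by ring

theorem Rep.dot {a b : ℕ} {x y : GolayPt → ℤ} (h : Rep a x) (h' : Rep b y) :
    dotInt x y = dotN a b := by rw [dotN_eq, h.2, h'.2]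

theorem Rep.sqNorm_eq {a : ℕ} {x : GolayPt → ℤ} (h : Rep a x) : sqNorm x = dotN a a := by
  rw [← dotInt_self, h.dot h]

theorem finite_norm (n : ℤ) : {v : leechLattice | sqNorm v.1 = n}.Finite := by
  apply Set.Finite.of_finite_image (f := Subtype.val) _ Subtype.val_injective.injOn
  apply (Set.Finite.pi' (t := fun _ : GolayPt => Set.Icc (-n) n) fun _ => Set.finite_Icc _ _).subset
  rintro _ ⟨v, hv, rfl⟩ i
  have h1 := sq_le_sqNorm v.1 i
  rw [show sqNorm v.1 = n from hv] at h1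
  constructor <;> nlinarith [sq_nonneg (v.1 i - 1), sq_nonneg (v.1 i + 1), sq_nonneg (v.1 i)]

/-- An additive norm-preserving map of the lattice into itself is an automorphism. -/
theorem exists_co0_of_isometry (f : leechLattice →+ leechLattice)
    (hf : ∀ v, sqNorm (f v).1 = sqNorm v.1) : ∃ g : Co0, ∀ v, g • v = f v := by
  have hinj : Function.Injective f := by
    rw [injective_iff_map_eq_zero]
    intro v hv
    apply Subtype.ext
    apply sqNorm_eq_zero
    rw [← hf, hv]; simp [sqNorm]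
  have hsurj : Function.Surjective f := by
    intro w
    have h1 : Set.MapsTo f {v : leechLattice | sqNorm v.1 = sqNorm w.1}
        {v : leechLattice | sqNorm v.1 = sqNorm w.1} := fun v hv => (hf v).trans hv
    obtain ⟨v, -, e⟩ := ((finite_norm _).injOn_iff_bijOn_of_mapsTo h1).1 hinj.injOn |>.surjOn
      (show w ∈ {v : leechLattice | sqNorm v.1 = sqNorm w.1} from rfl)
    exact ⟨v, e⟩
  exact ⟨⟨Equiv.ofBijective f ⟨hinj, hsurj⟩, f.map_add, hf⟩, fun _ => rfl⟩

/-- Codes of a basis of the lattice. -/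
def bas : List ℕ := [0x6c6318c6318c6318c6318c6318c631, 0x84a109421294a52842108421084250,
  0x94a1284a1094252842108421084a10, 0x84a5094a5084252842108421094210,
  0x942129425284252842108421284210, 0x9425284a5084a50842108425084210,
  0x94a5094a1094a108421084a1084210, 0x8421294a5094a12842109421084210,
  0x8425294a1294250842128421084210, 0x84a529425284a10842508421084210,
  0x942528421294a1284a108421084210, 0x94a508425294250942108421084210,
  0xa42108421084214842108421084210, 0xa42108421084290842108421084210,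
  0xa42108421085210842108421084210, 0xa421084210a4210842108421084210,
  0xa42108421484210842108421084210, 0xa42108429084210842108421084210,
  0xa42108521084210842108421084210, 0xa4210a421084210842108421084210,
  0xa42148421084210842108421084210, 0xa42908421084210842108421084210,
  0xa52108421084210842108421084210, 0x652108421084210842108421084210]

/-- The dual basis. -/
def dualB : List (List ℤ) := [
  [8, 0, 0, 0, 0, 0, 0, 0, 0, 0, 0, 0, 0, 0, 0, 0, 0, 0, 0, 0, 0, 0, 0, 0],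
  [-4, 4, 0, 0, 0, 0, 0, 0, 0, 0, 0, 0, 0, 0, 0, 0, 0, 0, 0, 0, 0, 0, 0, 0],
  [-4, 0, 4, 0, 0, 0, 0, 0, 0, 0, 0, 0, 0, 0, 0, 0, 0, 0, 0, 0, 0, 0, 0, 0],
  [-4, 0, 0, 4, 0, 0, 0, 0, 0, 0, 0, 0, 0, 0, 0, 0, 0, 0, 0, 0, 0, 0, 0, 0],
  [-4, 0, 0, 0, 4, 0, 0, 0, 0, 0, 0, 0, 0, 0, 0, 0, 0, 0, 0, 0, 0, 0, 0, 0],
  [-4, 0, 0, 0, 0, 4, 0, 0, 0, 0, 0, 0, 0, 0, 0, 0, 0, 0, 0, 0, 0, 0, 0, 0],
  [-4, 0, 0, 0, 0, 0, 4, 0, 0, 0, 0, 0, 0, 0, 0, 0, 0, 0, 0, 0, 0, 0, 0, 0],
  [-4, 0, 0, 0, 0, 0, 0, 4, 0, 0, 0, 0, 0, 0, 0, 0, 0, 0, 0, 0, 0, 0, 0, 0],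
  [-4, 0, 0, 0, 0, 0, 0, 0, 4, 0, 0, 0, 0, 0, 0, 0, 0, 0, 0, 0, 0, 0, 0, 0],
  [-4, 0, 0, 0, 0, 0, 0, 0, 0, 4, 0, 0, 0, 0, 0, 0, 0, 0, 0, 0, 0, 0, 0, 0],
  [-4, 0, 0, 0, 0, 0, 0, 0, 0, 0, 4, 0, 0, 0, 0, 0, 0, 0, 0, 0, 0, 0, 0, 0],
  [-4, 0, 0, 0, 0, 0, 0, 0, 0, 0, 0, 4, 0, 0, 0, 0, 0, 0, 0, 0, 0, 0, 0, 0],
  [10, -2, -2, -2, -2, 0, 0, -2, 0, 0, -2, 0, 2, 0, 0, 0, 0, 0, 0, 0, 0, 0, 0, 0],
  [12, -2, -2, -2, -2, -2, 0, 0, -2, 0, 0, -2, 0, 2, 0, 0, 0, 0, 0, 0, 0, 0, 0, 0],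
  [10, -2, 0, 0, 0, -2, -2, -2, 0, -2, -2, 0, 0, 0, 2, 0, 0, 0, 0, 0, 0, 0, 0, 0],
  [12, -2, -2, 0, 0, 0, -2, -2, -2, 0, -2, -2, 0, 0, 0, 2, 0, 0, 0, 0, 0, 0, 0, 0],
  [10, -2, 0, 0, -2, 0, 0, 0, -2, -2, -2, -2, 0, 0, 0, 0, 2, 0, 0, 0, 0, 0, 0, 0],
  [10, 0, 0, -2, -2, -2, 0, -2, 0, -2, 0, -2, 0, 0, 0, 0, 0, 2, 0, 0, 0, 0, 0, 0],
  [10, 0, -2, -2, 0, -2, -2, -2, -2, 0, 0, 0, 0, 0, 0, 0, 0, 0, 2, 0, 0, 0, 0, 0],
  [12, -2, 0, -2, -2, 0, -2, -2, -2, -2, 0, 0, 0, 0, 0, 0, 0, 0, 0, 2, 0, 0, 0, 0],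
  [12, 0, -2, 0, -2, -2, 0, -2, -2, -2, -2, 0, 0, 0, 0, 0, 0, 0, 0, 0, 2, 0, 0, 0],
  [12, 0, 0, -2, 0, -2, -2, 0, -2, -2, -2, -2, 0, 0, 0, 0, 0, 0, 0, 0, 0, 2, 0, 0],
  [-41, 5, 3, 5, 5, 5, 3, 7, 7, 5, 5, 3, -1, -1, -1, -1, -1, -1, -1, -1, -1, -1, 1, 1],
  [51, -7, -5, -7, -5, -5, -5, -7, -7, -7, -5, -5, 1, 1, 1, 1, 1, 1, 1, 1, 1, 1, 1, -1]]

/-- The basis vectors. -/
noncomputable def bv (k : ℕ) : leechLattice := toL (bas.getD k 0)

theorem chkN_bas : ∀ k < 24, chkN (bas.getD k 0) = true := by decide +kernel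

theorem dual_mem : ∀ k < 24, chk (vec (dualB.getD k [])) = true := by decide +kernel

/-- The dual basis vectors. -/
def dv (k : Fin 24) : leechLattice := ⟨vec (dualB.getD k []), mem_of_chk (dual_mem k k.2)⟩

theorem dual_bas : ∀ i j : GolayPt,
    ∑ k ∈ range 24, vec (dualB.getD k []) j * dec (bas.getD k 0) i =
      if i = j then 8 else 0 := by decide +kernel

theorem sum_beta_bv (v : leechLattice) : ∑ k : Fin 24, beta v (dv k) • bv k = v := by
  apply Subtype.ext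
  funext i
  have h1 : ∀ j, ∑ k : Fin 24, (dv k).1 j * (bv k).1 i = if i = j then 8 else 0 := by
    intro j
    rw [← dual_bas, sum_range]
    exact sum_congr rfl fun k _ => by rw [bv, coe_toL (chkN_bas k k.2)]; rfl
  have h2 : 8 * (∑ k : Fin 24, beta v (dv k) • bv k).1 i = 8 * v.1 i := by
    simp only [AddSubgroup.val_finsetSum, Finset.sum_apply, AddSubgroup.coe_zsmul, Pi.smul_apply,
      smul_eq_mul, mul_sum, ← mul_assoc, eight_mul_beta, dotInt, sum_mul]
    rw [sum_comm]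
    simp only [mul_assoc, ← mul_sum, h1]
    simp [mul_comm]
  omega

/-- The Gram matrix of the basis. -/
def gramB : List (List ℤ) := [
  [32, 16, 8, 16, 8, 8, 8, 16, 16, 16, 8, 8, -8, -8, -8, -8, -8, -8, -8, -8, -8, -8, -8, 16],
  [16, 32, 16, 16, 16, 8, 16, 16, 16, 16, 16, 16, 8, 8, 8, 8, 8, 0, 0, 8, 0, 0, 8, 8],
  [8, 16, 32, 16, 16, 16, 16, 16, 16, 8, 16, 16, 16, 16, 8, 16, 8, 8, 16, 8, 16, 8, 16, 0],
  [16, 16, 16, 32, 16, 16, 16, 16, 16, 16, 8, 16, 8, 8, 0, 0, 0, 8, 8, 8, 0, 8, 8, 8],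
  [8, 16, 16, 16, 32, 16, 8, 16, 16, 16, 16, 16, 16, 16, 8, 8, 16, 16, 8, 16, 16, 8, 8, -8],
  [8, 8, 16, 16, 16, 32, 16, 16, 16, 16, 16, 16, 8, 16, 16, 8, 8, 16, 16, 8, 16, 16, 8, -8],
  [8, 16, 16, 16, 8, 16, 32, 16, 16, 16, 16, 16, 8, 8, 16, 16, 8, 8, 16, 16, 8, 16, 16, 0],
  [16, 16, 16, 16, 16, 16, 16, 32, 16, 16, 16, 8, 8, 0, 8, 8, 0, 8, 8, 8, 8, 0, 0, 0],
  [16, 16, 16, 16, 16, 16, 16, 16, 32, 16, 16, 16, 0, 8, 0, 8, 8, 0, 8, 8, 8, 8, 0, 0],
  [16, 16, 8, 16, 16, 16, 16, 16, 16, 32, 16, 16, 0, 0, 8, 0, 8, 8, 0, 8, 8, 8, 8, 8],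
  [8, 16, 16, 8, 16, 16, 16, 16, 16, 16, 32, 16, 16, 8, 16, 16, 16, 8, 8, 8, 16, 16, 8, -8],
  [8, 16, 16, 16, 16, 16, 16, 8, 16, 16, 16, 32, 8, 16, 8, 16, 16, 16, 8, 8, 8, 16, 16, 0],
  [-8, 8, 16, 8, 16, 8, 8, 8, 0, 0, 16, 8, 32, 16, 16, 16, 16, 16, 16, 16, 16, 16, 16, -16],
  [-8, 8, 16, 8, 16, 16, 8, 0, 8, 0, 8, 16, 16, 32, 16, 16, 16, 16, 16, 16, 16, 16, 16, -16],
  [-8, 8, 8, 0, 8, 16, 16, 8, 0, 8, 16, 8, 16, 16, 32, 16, 16, 16, 16, 16, 16, 16, 16, -16],
  [-8, 8, 16, 0, 8, 8, 16, 8, 8, 0, 16, 16, 16, 16, 16, 32, 16, 16, 16, 16, 16, 16, 16, -16],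
  [-8, 8, 8, 0, 16, 8, 8, 0, 8, 8, 16, 16, 16, 16, 16, 16, 32, 16, 16, 16, 16, 16, 16, -16],
  [-8, 0, 8, 8, 16, 16, 8, 8, 0, 8, 8, 16, 16, 16, 16, 16, 16, 32, 16, 16, 16, 16, 16, -16],
  [-8, 0, 16, 8, 8, 16, 16, 8, 8, 0, 8, 8, 16, 16, 16, 16, 16, 16, 32, 16, 16, 16, 16, -16],
  [-8, 8, 8, 8, 16, 8, 16, 8, 8, 8, 8, 8, 16, 16, 16, 16, 16, 16, 16, 32, 16, 16, 16, -16],
  [-8, 0, 16, 0, 16, 16, 8, 8, 8, 8, 16, 8, 16, 16, 16, 16, 16, 16, 16, 16, 32, 16, 16, -16],
  [-8, 0, 8, 8, 8, 16, 16, 0, 8, 8, 16, 16, 16, 16, 16, 16, 16, 16, 16, 16, 16, 32, 16, -16],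
  [-8, 8, 16, 8, 8, 8, 16, 0, 0, 8, 8, 16, 16, 16, 16, 16, 16, 16, 16, 16, 16, 16, 32, 0],
  [16, 8, 0, 8, -8, -8, 0, 0, 0, 8, -8, 0, -16, -16, -16, -16, -16, -16, -16, -16, -16, -16, 0, 32]]

theorem gram_bas : allLT 24 (fun k => allLT 24 fun l =>
    dotN (bas.getD k 0) (bas.getD l 0) == (gramB.getD k []).getD l 0) = true := by decide +kernel

/-- The test that `(K, C)` describes an element of `Co0`. -/
noncomputable def matOK (K : ℕ) (C : List ℕ) : Bool :=
  Comput.band (Nat.beq C.length 24) <|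
  Comput.band (allLT 24 fun k => chkN (act K C (bas.getD k 0))) <|
  Comput.band (allLT 24 fun k => allLT (Nat.succ k) fun l =>
    dotN (act K C (bas.getD k 0)) (act K C (bas.getD l 0)) == (gramB.getD k []).getD l 0) <|
  Comput.band (allLT 24 fun j => ((C.getD j 0 : ℤ) - ∑ k ∈ range 24,
      (dualB.getD k []).getD j 0 * ((act K C (bas.getD k 0) : ℤ) - OFF)) % 2 ^ 123 == 0)
    (((linD K C OFF : ℤ) - 8 * OFF) % 2 ^ 123 == 0)

theorem exists_sim {K : ℕ} {C : List ℕ} (h : matOK K C = true) : ∃ g : Co0, Sim g (act K C) := by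
  simp only [matOK, Comput.band_eq_true, allLT_iff, beq_iff_eq] at h
  obtain ⟨h1, h2, h3, h4, h5⟩ := h
  let y : Fin 24 → leechLattice := fun k => toL (act K C (bas.getD k 0))
  have hy : ∀ k : Fin 24, Rep (act K C (bas.getD k 0)) (y k).1 := fun k => rep_toL (h2 k k.2)
  have hb : ∀ k : Fin 24, Rep (bas.getD k 0) (bv k).1 := fun k => rep_toL (chkN_bas k k.2)
  have hG := gram_bas
  simp only [allLT_iff, beq_iff_eq] at hG
  have hg : ∀ k l : Fin 24, beta (y k) (y l) = beta (bv k) (bv l) := by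
    have : ∀ k l : Fin 24, l ≤ k → dotInt (y k).1 (y l).1 = dotInt (bv k).1 (bv l).1 :=
      fun k l hl => by
        rw [(hy k).dot (hy l), (hb k).dot (hb l), hG k k.2 l l.2, h3 k k.2 l (Nat.lt_succ_of_le hl)]
    intro k l
    have e1 := eight_mul_beta (y k) (y l)
    have e2 := eight_mul_beta (bv k) (bv l)
    rcases le_total l k with h | h
    · have := this k l h; omega
    · have := this l k h
      rw [dotInt_comm, dotInt_comm (bv l).1] at this; omega
  let f : leechLattice →+ leechLattice :=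
    { toFun := fun v => ∑ k : Fin 24, beta v (dv k) • y k
      map_zero' := by simp
      map_add' := fun v w => by simp [add_smul, sum_add_distrib] }
  obtain ⟨g, hf⟩ := exists_co0_of_isometry f fun v => by
    have e : beta (f v) (f v) = beta v v := by
      conv_rhs => rw [← sum_beta_bv v]
      simp only [f, AddMonoidHom.coe_mk, ZeroHom.coe_mk, map_sum, map_smul, LinearMap.sum_apply,
        LinearMap.smul_apply, hg]
    rw [← eight_mul_beta_self, e, eight_mul_beta_self]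
  refine ⟨g, sim_act (Nat.eq_of_beq_eq_true h1) (fun i => ?_) ?_⟩
  · have e : enc (g • e8 i).1 = ∑ k ∈ range 24,
        (dualB.getD k []).getD (ix i) 0 * ((act K C (bas.getD k 0) : ℤ) - OFF) := by
      rw [hf, sum_range]
      simp only [f, AddMonoidHom.coe_mk, ZeroHom.coe_mk, AddSubgroup.val_finsetSum, map_sum,
        AddSubgroup.coe_zsmul, map_zsmul, smul_eq_mul]
      refine sum_congr rfl fun k _ => ?_
      have e1 := eight_mul_beta (e8 i) (dv k)
      rw [dotInt_comm, dotInt_e8] at e1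
      have e2 : beta (e8 i) (dv k) = (dualB.getD k []).getD (ix i) 0 := by
        have : (dv k).1 i = (dualB.getD k []).getD (ix i) 0 := rfl
        omega
      rw [e2, (hy k).cast, add_sub_cancel_right]
    rw [e]
    exact Int.emod_eq_emod_iff_emod_sub_eq_zero.2 (h4 _ (ix_lt i))
  · exact Int.emod_eq_emod_iff_emod_sub_eq_zero.2 h5

open Classical in
/-- The element of `Co0` described by `(K, C)`. -/
noncomputable def matG (K : ℕ) (C : List ℕ) : Co0 :=
  if h : ∃ g : Co0, Sim g (act K C) then h.choose else 1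

theorem sim_matG {K : ℕ} {C : List ℕ} (h : matOK K C = true) : Sim (matG K C) (act K C) := by
  rw [matG, dif_pos (exists_sim h)]
  exact (exists_sim h).choose_spec

end CfsgLib.Leech
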