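import Mathlib
import Cfsg.Agent.Lib.Leech.OrbLe

/-!
A fast evaluation of coded elements of `Co0` (two big multiplications) and orbit enumeration in
several independent pieces.
-/

set_option autoImplicit false

namespace CfsgLib.Leech

open Cfsg Finset MulAction Spor Comput

/-- `∑ 2 ^ (135 j)` -/
def spR : ℕ := 0x200000000000000000000000000000000040000000000000000000000000000000008000000000000000000000000000000001000000000000000000000000000000000200000000000000000000000000000000040000000000000000000000000000000008000000000000000000000000000000001000000000000000000000000000000000200000000000000000000000000000000040000000000000000000000000000000008000000000000000000000000000000001000000000000000000000000000000000200000000000000000000000000000000040000000000000000000000000000000008000000000000000000000000000000001000000000000000000000000000000000200000000000000000000000000000000040000000000000000000000000000000008000000000000000000000000000000001000000000000000000000000000000000200000000000000000000000000000000040000000000000000000000000000000008000000000000000000000000000000001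

/-- `∑ 31 * 2 ^ (140 j)` -/
def spM : ℕ := 0x1f0000000000000000000000000000000001f0000000000000000000000000000000001f0000000000000000000000000000000001f0000000000000000000000000000000001f0000000000000000000000000000000001f0000000000000000000000000000000001f0000000000000000000000000000000001f0000000000000000000000000000000001f0000000000000000000000000000000001f0000000000000000000000000000000001f0000000000000000000000000000000001f0000000000000000000000000000000001f0000000000000000000000000000000001f0000000000000000000000000000000001f0000000000000000000000000000000001f0000000000000000000000000000000001f0000000000000000000000000000000001f0000000000000000000000000000000001f0000000000000000000000000000000001f0000000000000000000000000000000001f0000000000000000000000000000000001f0000000000000000000000000000000001f0000000000000000000000000000000001f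

/-- Fast form of `act`; `D` packs the columns in base `2 ^ 140`. -/
noncomputable def act2 (K D N : ℕ) : ℕ :=
  Nat.shiftRight (Nat.land (Nat.add (Nat.shiftRight (Nat.mul (Nat.land (Nat.mul N spR) spM) D) 3220) K)
    0x7ffffffffffffffffffffffffffffff) 3

theorem spR_eq : spR = ∑ j ∈ range 24, (2 ^ 135) ^ j := by decide +kernel

theorem spM_lt : spM < (2 ^ 140) ^ 24 := by decide +kernel

theorem spM_digit : ∀ j < 24, spM / 2 ^ (140 * j) % 2 ^ 140 = 2 ^ 5 - 1 := by decide +kernel

theorem spread_eq {N : ℕ} (hN : N < 2 ^ 120) :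
    (N * spR) &&& spM = ∑ j ∈ range 24, dg N j * (2 ^ 140) ^ j := by
  have h1 := mod_pow_eq_sum (2 ^ 140) ((N * spR) &&& spM) 24
  rw [Nat.mod_eq_of_lt (Nat.and_le_right.trans_lt spM_lt)] at h1
  rw [h1]
  refine sum_congr rfl fun j hj => ?_
  have hj := mem_range.1 hj
  have h2 := sum_digits_digit (2 ^ 135) (fun _ => N) 24 (fun _ _ => by omega) hj
  rw [← mul_sum, ← spR_eq] at h2
  generalize N * spR = X at h2 ⊢
  rw [← pow_mul, Nat.and_div_two_pow, Nat.and_mod_two_pow, spM_digit j hj,
    Nat.and_two_pow_sub_one_eq_mod, Nat.mod_mod_of_dvd _ (by norm_num), dg, ← h2,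
    show (32 : ℕ) ^ j = 2 ^ (5 * j) by rw [pow_mul]; norm_num,
    show 140 * j = 135 * j + 5 * j by ring, pow_add, ← Nat.div_div_eq_div_mul, ← pow_mul]
  generalize X / 2 ^ (135 * j) = Y
  congr 1
  have e : (2 : ℕ) ^ 135 = 2 ^ (5 * j) * (32 * 2 ^ (130 - 5 * j)) := by
    rw [show (32 : ℕ) = 2 ^ 5 by norm_num, ← pow_add, ← pow_add]; congr 1; omega
  rw [e, Nat.mod_mul_right_div_self, Nat.mod_mul_right_mod]

theorem conv_mid (d c : ℕ → ℕ) (hd : ∀ j, d j < 32) (hc : ∀ j < 24, c j < 2 ^ 123) :
    (∑ j ∈ range 24, d j * (2 ^ 140) ^ j) * (∑ l ∈ range 24, c l * (2 ^ 140) ^ (23 - l)) /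
      (2 ^ 140) ^ 23 ≡ ∑ j ∈ range 24, d j * c j [MOD 2 ^ 123] := by
  obtain ⟨B, hB⟩ : ∃ B : ℕ, B = 2 ^ 140 := ⟨_, rfl⟩
  rw [← hB]
  have hB0 : 0 < B := by rw [hB]; positivity
  have e : (∑ j ∈ range 24, d j * B ^ j) * (∑ l ∈ range 24, c l * B ^ (23 - l)) =
      (∑ j ∈ range 24, ∑ l ∈ range 24, if j < l then d j * c l * B ^ (j + (23 - l)) else 0) +
      B ^ 23 * (∑ j ∈ range 24, d j * c j + B *
        ∑ j ∈ range 24, ∑ l ∈ range 24, if l < j then d j * c l * B ^ (j - l - 1) else 0) := by
    rw [sum_mul_sum, mul_add, ← mul_assoc, mul_sum, mul_sum, ← sum_add_distrib, ← sum_add_distrib]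
    refine sum_congr rfl fun j hj => ?_
    have h3 : B ^ 23 * (d j * c j) = ∑ l ∈ range 24, if l = j then B ^ 23 * (d j * c l) else 0 := by
      rw [sum_ite_eq', if_pos hj]
    rw [h3, mul_sum, ← sum_add_distrib, ← sum_add_distrib]
    refine sum_congr rfl fun l hl => ?_
    have hj := mem_range.1 hj
    have hl := mem_range.1 hl
    rcases lt_trichotomy j l with h | rfl | h
    · rw [if_pos h, if_neg h.ne', if_neg h.not_gt, pow_add]; ring
    · rw [if_neg (lt_irrefl _), if_pos rfl, if_neg (lt_irrefl _)]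
      have : B ^ 23 = B ^ j * B ^ (23 - j) := by rw [← pow_add]; congr 1; omega
      rw [this]; ring
    · rw [if_neg h.not_gt, if_neg h.ne, if_pos h]
      have : B ^ j * B ^ (23 - l) = B ^ 23 * B * B ^ (j - l - 1) := by
        rw [← pow_add, ← pow_succ, ← pow_add]; congr 1; omega
      calc _ = d j * c l * (B ^ j * B ^ (23 - l)) := by ring
        _ = _ := by rw [this]; ring
  have h4 : (∑ j ∈ range 24, ∑ l ∈ range 24, if j < l then d j * c l * B ^ (j + (23 - l)) else 0) <
      B ^ 23 := by
    refine lt_of_le_of_lt (sum_le_card_nsmul _ _ (24 • (32 * 2 ^ 123 * B ^ 22)) fun j _ =>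
      (sum_le_card_nsmul _ _ _ fun l hl => ?_).trans (by rw [card_range])) ?_
    · have hl := mem_range.1 hl
      split_ifs with h
      · exact Nat.mul_le_mul (Nat.mul_le_mul (hd j).le (hc l hl).le)
          (Nat.pow_le_pow_right hB0 (by omega))
      · exact Nat.zero_le _
    · rw [card_range, smul_eq_mul, smul_eq_mul, ← mul_assoc, ← mul_assoc, pow_succ' B 22]
      exact Nat.mul_lt_mul_of_pos_right (by rw [hB]; norm_num) (by positivity)
  rw [e, Nat.add_mul_div_left _ _ (by positivity), Nat.div_eq_of_lt h4, zero_add, hB,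
    show (2 : ℕ) ^ 140 = 2 ^ 123 * 2 ^ 17 by norm_num, mul_assoc]
  exact Nat.add_mul_mod_self_left _ _ _

/-- The test that `D` packs the list `C`. -/
noncomputable def packOK (C : List ℕ) (D : ℕ) : Bool :=
  band (Nat.beq C.length 24) <| band (C.all fun c => Nat.ble c 0x7ffffffffffffffffffffffffffffff)
    (Nat.beq D (C.foldl (fun a c => Nat.add (Nat.shiftLeft a 140) c) 0))

theorem foldl_pack (C : List ℕ) (a : ℕ) : C.foldl (fun a c => Nat.add (Nat.shiftLeft a 140) c) a =
    a * (2 ^ 140) ^ C.length + ∑ l ∈ range C.length, C.getD l 0 * (2 ^ 140) ^ (C.length - 1 - l) := by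
  induction C generalizing a with
  | nil => simp
  | cons c C ih =>
    rw [List.foldl_cons, ih, List.length_cons, sum_range_succ',
      show Nat.add (Nat.shiftLeft a 140) c = a * 2 ^ 140 + c from by
        rw [← Nat.shiftLeft_eq]; rfl]
    rw [sum_congr rfl fun l _ => show (c :: C).getD (l + 1) 0 * (2 ^ 140) ^ (C.length + 1 - 1 - (l + 1)) =
      C.getD l 0 * (2 ^ 140) ^ (C.length - 1 - l) by
        rw [List.getD_cons_succ]; congr 2; omega, List.getD_cons_zero, Nat.add_sub_cancel, Nat.sub_zero]
    generalize (2 : ℕ) ^ 140 = B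
    ring

theorem act2_eq {K D N : ℕ} {C : List ℕ} (h : packOK C D = true) (hN : N < 2 ^ 120) :
    act2 K D N = act K C N := by
  simp only [packOK, band_eq_true, List.all_eq_true] at h
  obtain ⟨h1, h2, h3⟩ := h
  have h1 := Nat.eq_of_beq_eq_true h1
  have h3 := Nat.eq_of_beq_eq_true h3
  rw [foldl_pack, h1, zero_mul, zero_add] at h3
  have h4 := conv_mid (dg N) (fun l => C.getD l 0) (dg_lt N) fun j hj => by
    have := Nat.le_of_ble_eq_true (h2 (C.getD j 0) (by
      rw [List.getD_eq_getElem _ _ (by omega)]; exact List.getElem_mem _))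
    omega
  rw [← spread_eq hN, ← h3] at h4
  have e : act2 K D N = ((((N * spR) &&& spM) * D) / (2 ^ 140) ^ 23 + K) % 2 ^ 123 / 8 := by
    rw [← pow_mul, ← Nat.shiftRight_eq_div_pow, ← Nat.and_two_pow_sub_one_eq_mod,
      show (8 : ℕ) = 2 ^ 3 by norm_num, ← Nat.shiftRight_eq_div_pow]
    rfl
  rw [e, act_eq, linD_eq, h1, (h4.add_right K)]

theorem Sim.act2 {g : Co0} {K D : ℕ} {C : List ℕ} (hs : Sim g (act K C)) (h : packOK C D = true) :
    Sim g (act2 K D) := fun v N hv hN => by
  rw [act2_eq h hN.1]; exact hs v N hv hN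

/-- All marks of `S` come from the orbit of `v`. -/
def Marks (H : Subgroup Co0) (v : leechLattice) (idx : ℕ → ℕ) (S : ℕ) : Prop :=
  ∀ b, S.testBit b = true → ∃ c, (∃ g ∈ H, Rep c (g • v).1) ∧ idx c = b

theorem Marks.or {H : Subgroup Co0} {v : leechLattice} {idx : ℕ → ℕ} {S S' : ℕ}
    (h : Marks H v idx S) (h' : Marks H v idx S') : Marks H v idx (Nat.lor S S') := fun b hb => by
  rw [show Nat.lor S S' = S ||| S' from rfl, Nat.testBit_or, Bool.or_eq_true] at hb
  exact hb.elim (h b) (h' b)

theorem marks_run {H : Subgroup Co0} {fs : List (ℕ → ℕ)} (hfs : ∀ f ∈ fs, ∃ g ∈ H, Sim g f)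
    {c : ℕ} (h1 : chkN c = true) (h2 : dotN c c < 256) {idx : ℕ → ℕ} {ws : List ℕ} {S : ℕ}
    (h : Nat.beq (runL fs idx ws [c] (Nat.shiftLeft 1 (idx c))) S = true) :
    Marks H (toL c) idx S := by
  have h0 : ∃ g ∈ H, Rep c (g • toL c).1 := ⟨1, H.one_mem, by rw [one_smul]; exact rep_toL h1⟩
  rw [← Nat.eq_of_beq_eq_true h]
  exact runL_inv (P := fun d => ∃ g ∈ H, Rep d (g • toL c).1) (fun f hf c ⟨g, hg, hc⟩ => by
    obtain ⟨g', hg', hs⟩ := hfs f hf
    exact ⟨g' * g, H.mul_mem hg' hg, by
      rw [mul_smul]; exact hs _ _ (by rwa [sqNorm_smul, sqNorm_toL h1]) hc⟩)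
    idx ws [c] _ (by simpa using h0) (fun b hb => by
      rw [show Nat.shiftLeft 1 (idx c) = 2 ^ idx c from Nat.one_shiftLeft _, Nat.testBit_two_pow,
        decide_eq_true_eq] at hb
      exact ⟨c, h0, hb⟩)

theorem Marks.le {H : Subgroup Co0} {v : leechLattice} {idx : ℕ → ℕ} {S n k : ℕ}
    (h : Marks H v idx S) (hn : n < 16777215) (hk : Nat.ble k (pop n S) = true) :
    k ≤ {w | ∃ g ∈ H, g • v = w}.ncard := by
  have hfin : {w | ∃ g ∈ H, g • v = w}.Finite := (finite_norm (sqNorm v.1)).subset (by
    rintro _ ⟨g, -, rfl⟩; exact sqNorm_smul g v)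
  refine (Nat.le_of_ble_eq_true hk).trans ?_
  rw [pop_eq hn, Comput.cnt, ← Set.ncard_coe_finset]
  refine le_trans (Set.ncard_le_ncard (t := (fun w : leechLattice => idx (enc w.1 + OFF).toNat) ''
    {w | ∃ g ∈ H, g • v = w}) ?_ (hfin.image _)) (Set.ncard_image_le hfin)
  intro b hb
  obtain ⟨c, ⟨g, hg, hc⟩, rfl⟩ := h b (mem_filter.1 hb).2
  exact ⟨_, ⟨g, hg, rfl⟩, by simp only [← hc.cast, Int.toNat_natCast]⟩

theorem sims_two {H : Subgroup Co0} {a b : Co0} (ha : a ∈ H) (hb : b ∈ H) {f f' : ℕ → ℕ}
    (sa : Sim a f) (sb : Sim b f') : ∀ φ ∈ [f, f'], ∃ g ∈ H, Sim g φ := by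
  simp only [List.mem_cons, List.not_mem_nil, or_false, forall_eq_or_imp, forall_eq]
  exact ⟨⟨a, ha, sa⟩, b, hb, sb⟩

end CfsgLib.Leech
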